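import Cfsg.Agent.EvenLocal.ZJFree.Reduction
import Cfsg.Agent.EvenLocal.ZJStability
import Cfsg.Agent.Stability.Action
import Cfsg.Agent.S2794

/-!
If no local subgroup `N(Q)`, `Z(S) ≤ Q ≤ S`, has a section `SL(2,p)`, then `N(Z(J(S)))` controls
strong fusion in `S`.
-/

set_option autoImplicit false

namespace Cfsg.Agent.EvenLocal.ZJFree

open Cfsg.Agent.Fusion Cfsg.Agent.CF

universe u

variable {p : ℕ} [Fact p.Prime]

/-- No subgroup of `H` maps onto `SL(2, p)`. -/
def NoSL2 (p : ℕ) {G : Type*} [Group G] (H : Subgroup G) : Prop :=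
  ∀ K : Subgroup G, K ≤ H → ∀ f : K →* Matrix.SpecialLinearGroup (Fin 2) (ZMod p),
    ¬ Function.Surjective f

theorem NoSL2.mono {G : Type*} [Group G] {H H' : Subgroup G} (h : NoSL2 p H') (hle : H ≤ H') :
    NoSL2 p H := fun K hK => h K (hK.trans hle)

theorem NoSL2.of_surjective {G Y : Type*} [Group G] [Group Y] (π : G →* Y) {H : Subgroup G}
    {H' : Subgroup Y} (hH : H' ≤ H.map π) (h : NoSL2 p H) : NoSL2 p H' := by
  intro K hK f hf
  let K' := H ⊓ K.comap π
  refine h K' inf_le_left (f.comp ((π.comp K'.subtype).codRestrict K fun x => x.2.2)) ?_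
  refine hf.comp fun k => ?_
  obtain ⟨g, hg, hgk⟩ := hH (hK k.2)
  exact ⟨⟨g, hg, show π g ∈ K from hgk ▸ k.2⟩, Subtype.ext hgk⟩

/-- The hypothesis on the locals over the centre of a Sylow subgroup. -/
def Free (p : ℕ) (X : Type*) [Group X] : Prop :=
  ∀ (S : Sylow p X) (Q : Subgroup X), H4.centerOf (S : Subgroup X) ≤ Q → Q ≤ (S : Subgroup X) →
    NoSL2 p (Subgroup.normalizer (Q : Set X))

variable {X : Type u} [Group X] [Finite X]

theorem Free.subgroup (hX : Free p X) (S : Sylow p X) {H P : Subgroup X} (hP : IsSyl p P H)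
    (hPS : P ≤ (S : Subgroup X)) (hZ : H4.centerOf (S : Subgroup X) ≤ P) : Free p ↥H := by
  intro T Q hQ1 hQ2
  obtain ⟨h, hh⟩ := exists_cj_sylow ((hP.isP.comap_subtype (K := H)).toSylow hP.idx) T
  set S' : Sylow p X := (h : X) • S with hS'
  have hS'e : (S' : Subgroup X) = cj (h : X) (S : Subgroup X) := coe_smul_sylow _ _
  have hTe : (T : Subgroup H).map H.subtype = cj (h : X) P := by
    rw [← hh]
    show ((P.subgroupOf H).map (MulAut.conj h).toMonoidHom).map H.subtype = cj (h : X) P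
    rw [Subgroup.map_map,
      show H.subtype.comp (MulAut.conj h).toMonoidHom =
        (MulAut.conj (h : X)).toMonoidHom.comp H.subtype from rfl,
      ← Subgroup.map_map, Subgroup.map_subgroupOf_eq_of_le hP.le]
  have hTS : (T : Subgroup H).map H.subtype ≤ (S' : Subgroup X) := by
    rw [hTe, hS'e]; exact cj_mono _ hPS
  have hZ' : H4.centerOf (S' : Subgroup X) ≤ Q.map H.subtype := by
    intro z hz
    have hzT : z ∈ (T : Subgroup H).map H.subtype := by
      rw [hTe, mem_cj]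
      refine hZ ⟨?_, Subgroup.mem_centralizer_iff.mpr fun w hw => ?_⟩
      · have h0 : z ∈ cj (h : X) (S : Subgroup X) := hS'e ▸ (hz.1 : z ∈ (S' : Subgroup X))
        exact mem_cj.mp h0
      · have hw' : (h : X) * w * (h : X)⁻¹ ∈ (S' : Subgroup X) := by
          rw [hS'e]; exact conj_mem_cj.mpr hw
        have h1 := Subgroup.mem_centralizer_iff.mp hz.2 _ hw'
        calc w * ((h : X)⁻¹ * z * h) = (h : X)⁻¹ * ((h : X) * w * (h : X)⁻¹ * z) * h := by group
          _ = (h : X)⁻¹ * z * h * w := by rw [h1]; group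
    obtain ⟨z', hz', rfl⟩ := hzT
    refine ⟨z', hQ1 ⟨hz', Subgroup.mem_centralizer_iff.mpr fun w hw => Subtype.ext ?_⟩, rfl⟩
    exact Subgroup.mem_centralizer_iff.mp hz.2 _ (hTS ⟨w, hw, rfl⟩)
  intro K hK f hf
  refine hX S' (Q.map H.subtype) hZ' ((Subgroup.map_mono hQ2).trans hTS) (K.map H.subtype)
    ((Subgroup.map_mono hK).trans (Subgroup.le_normalizer_map _))
    (f.comp (K.equivMapOfInjective _ H.subtype_injective).symm.toMonoidHom) ?_
  exact hf.comp (MulEquiv.surjective _)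

theorem Free.quotient (hX : Free p X) (N : Subgroup X) [N.Normal]
    (hN : IsPGroup p N ∨ (Nat.card N).Coprime p) : Free p (X ⧸ N) := by
  intro T Q hQ1 hQ2
  set π := QuotientGroup.mk' N with hπ
  have hsurj : Function.Surjective π := QuotientGroup.mk'_surjective N
  obtain ⟨S, rfl⟩ := Sylow.mapSurjective_surjective hsurj p T
  set Q₀ := (S : Subgroup X) ⊓ Q.comap π with hQ₀
  have hQmap : Q₀.map π = Q := by
    refine le_antisymm ((Subgroup.map_mono inf_le_right).trans (Subgroup.map_comap_le _ _))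
      fun q hq => ?_
    have h1 : q ∈ (S : Subgroup X).map π := hQ2 hq
    obtain ⟨s, hs, rfl⟩ := h1
    exact ⟨s, ⟨hs, hq⟩, rfl⟩
  have hZ : H4.centerOf (S : Subgroup X) ≤ Q₀ := by
    refine le_inf inf_le_left fun z hz => hQ1 ⟨⟨z, hz.1, rfl⟩, ?_⟩
    refine Subgroup.mem_centralizer_iff.mpr ?_
    rintro _ ⟨s, hs, rfl⟩
    rw [← map_mul, ← map_mul, Subgroup.mem_centralizer_iff.mp hz.2 s hs]
  refine (hX S Q₀ hZ inf_le_left).of_surjective π fun q hq => ?_
  obtain ⟨g, rfl⟩ := hsurj q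
  rcases hN with hN | hN
  · refine ⟨g, ?_, rfl⟩
    have hNS : N ≤ (S : Subgroup X) := (Cores.le_pCore inferInstance hN).trans (Cores.pCore_le_sylow S)
    have hcomap : Q₀ = Q.comap π := inf_eq_right.mpr (by
      calc Q.comap π ≤ ((S : Subgroup X).map π).comap π := Subgroup.comap_mono hQ2
        _ = S := Subgroup.comap_map_eq_self (by rw [QuotientGroup.ker_mk']; exact hNS))
    rw [hcomap]
    exact Subgroup.le_normalizer_comap π hq
  · obtain ⟨x, hx, m, hm, rfl⟩ := PSolv.exists_mul_mem_normalizer N hN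
      (S.2.to_inf_left : IsPGroup p Q₀) (g := g) (by rw [hQmap]; exact hq)
    refine ⟨m, hm, ?_⟩
    rw [map_mul, (QuotientGroup.eq_one_iff x).mpr hx |> fun h => (show π x = 1 from h), one_mul]

omit [Finite X] in
theorem noSL2_iff_sections (h : NoSL2 p (⊤ : Subgroup X)) :
    ¬ ∃ (K R : Subgroup X) (_ : (R.subgroupOf K).Normal),
      Nonempty ((K ⧸ R.subgroupOf K) ≃* Matrix.SpecialLinearGroup (Fin 2) (ZMod p)) := by
  rintro ⟨K, R, hR, ⟨e⟩⟩
  exact h K le_top (e.toMonoidHom.comp (QuotientGroup.mk' _))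
    (e.surjective.comp (QuotientGroup.mk'_surjective _))

theorem fusIn_constrained (hp : p ≠ 2) (hX : Free p X) (hC : Constrained p X) (S : Sylow p X) :
    FusIn (Fam {Cfsg.Agent.S2794.zjFun.{u}} X) ⊤ (S : Subgroup X) := by
  rw [fam_singleton]
  have hQS : Cfsg.pCore p X ≤ (S : Subgroup X) := Cores.pCore_le_sylow S
  have hZQ : H4.centerOf (S : Subgroup X) ≤ Cfsg.pCore p X :=
    fun z hz => hC (Subgroup.centralizer_le hQS hz.2)
  have h1 := hX S _ hZQ hQS
  rw [Subgroup.normalizer_eq_top (H := Cfsg.pCore p X)] at h1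
  have hpf : Stability.PairFree p X := Stability.pairFree_of_sl2Free (noSL2_iff_sections h1)
  have hn := EvenLocal.centerThompsonAOf_normal hp S (Fusion.sc_self _) hC
    (EvenLocal.zjStable_of_isPStableOn (fun B _ hB => hpf.isPStableOn hp hB) _)
  refine fusIn_singleton fun D _ g _ _ => ⟨g, ⟨trivial, ?_⟩, fun d _ => rfl⟩
  rw [Nz, Cfsg.Agent.S2794.induced_zjFun, Subgroup.normalizer_eq_top (h := hn)]
  trivial

theorem fusIn_free (hp : p ≠ 2) (X : Type u) [Group X] [Finite X] (hX : Free p X) (S : Sylow p X) :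
    FusIn (Fam {Cfsg.Agent.S2794.zjFun.{u}} X) ⊤ (S : Subgroup X) := by
  induction hn : Nat.card X using Nat.strong_induction_on generalizing X with
  | _ n ih =>
  subst hn
  have h𝓦 : ∀ W ∈ ({Cfsg.Agent.S2794.zjFun.{u}} : Set (∀ (Q : Type u) [Group Q], Subgroup Q)),
      Cfsg.IsCharPFunctor.{u} p W := fun W hW =>
    (Set.mem_singleton_iff.mp hW) ▸ Cfsg.Agent.S2794.zjFun_charP
  by_cases hC : Constrained p X
  · exact fusIn_constrained hp hX hC S
  refine fusIn_step_center h𝓦 S (fun H P hH hP hPS hZ => fusIn_of_subgroup_top h𝓦 hP fun T =>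
    ih _ (card_subgroup_lt H hH) H (hX.subgroup S hP hPS hZ) T rfl) ?_ hC
  intro N _ hN hNc T
  exact ih _ (card_quotient_lt N hN) (X ⧸ N) (hX.quotient N hNc) T rfl

end Cfsg.Agent.EvenLocal.ZJFree
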