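import Cfsg.Agent.CF.Sections
import Cfsg.Agent.H4.ThompsonReduction

/-!
The reduction of control of fusion to constrained sections, with the inductive hypothesis needed only
for subgroups whose Sylow subgroup contains `Z(S)`.
-/

set_option autoImplicit false

open scoped commutatorElement

namespace Cfsg.Agent.EvenLocal.ZJFree

open Cfsg.Agent.Fusion Cfsg.Agent.CF

universe u

variable {X : Type u} [Group X] [Finite X] {p : ℕ} [Fact p.Prime]
  {𝓦 : Set (∀ (Q : Type u) [Group Q], Subgroup Q)}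

theorem centerOf_le_inf_Nz {S V : Subgroup X} (hVS : V ≤ S) : H4.centerOf S ≤ S ⊓ Nz V :=
  le_inf inf_le_left fun _ hz =>
    Subgroup.centralizer_le_normalizer _ (Subgroup.centralizer_le hVS hz.2)

section Generic

variable {S : Sylow p X} {Φ : Subgroup X → X → Prop} {F : Set (Subgroup X → Subgroup X)}

/-- Control in every proper subgroup. -/
def CtrlProper (S : Sylow p X) (Φ : Subgroup X → X → Prop)
    (F : Set (Subgroup X → Subgroup X)) : Prop :=
  ∀ H P : Subgroup X, H ≠ ⊤ → IsSyl p P H → P ≤ (S : Subgroup X) →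
    H4.centerOf (S : Subgroup X) ≤ P → CtrlAt Φ F H P

theorem decomp_overgroup (hbase : Base S Φ F) (hctrl : CtrlProper S Φ F) {H : Subgroup X}
    (hSH : (S : Subgroup X) ≤ H) (hH : H ≠ ⊤) {y : X} (hy : y ∈ H) {D : Subgroup X}
    (hD : D ≤ (S : Subgroup X)) (hyD : cj y D ≤ (S : Subgroup X)) : Φ D y :=
  hctrl H S hH (IsSyl.sylow_inf hSH) le_rfl inf_le_left
    (fun W hW x hx D' hD' hxD' => hbase W hW x hx.2 D' hD' hxD') y hy D hD hyD

theorem decomp_of_pCore_bot (hΦ : IsDecomp (S : Subgroup X) Φ)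
    (hF : ∀ W ∈ F, Cfsg.IsConjugacyFunctor p W) (hbase : Base S Φ F)
    (hctrl : CtrlProper S Φ F) (hQ : Cfsg.pCore p X = ⊥) {D : Subgroup X} {g : X}
    (hD : D ≤ (S : Subgroup X)) (hg : cj g D ≤ (S : Subgroup X)) : Φ D g :=
  decomp_of_local hΦ F hF hbase
    (fun V hV hVS hext hsteps =>
      hctrl _ _ (Nz_ne_top_of_not_le_pCore (S.2.to_le hVS)
        (fun h => hV (le_bot_iff.mp (hQ ▸ h)))) hext inf_le_left (centerOf_le_inf_Nz hVS) hsteps)
    hD hg

/-- If `C(Q) Q S` is proper, decompositions follow from those in `C(Q) Q S` and in a Frattini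
subgroup. -/
theorem decomp_of_factor (hΦ : IsDecomp (S : Subgroup X) Φ) (hbase : Base S Φ F)
    (hctrl : CtrlProper S Φ F) (hpp : Cfsg.pPrimeCore p X = ⊥)
    (hC : ¬ Subgroup.centralizer (Cfsg.pCore p X : Set X) ≤ Cfsg.pCore p X)
    (hL : Subgroup.centralizer (Cfsg.pCore p X : Set X) ⊔ (S : Subgroup X) ≠ ⊤)
    {D : Subgroup X} {g : X} (hD : D ≤ (S : Subgroup X)) (hg : cj g D ≤ (S : Subgroup X)) :
    Φ D g := by
  set C := Subgroup.centralizer (Cfsg.pCore p X : Set X) with hCdef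
  haveI : C.Normal := by rw [hCdef]; infer_instance
  set L := C ⊔ (S : Subgroup X) with hLdef
  set M := Nz ((S : Subgroup X) ⊓ C) with hMdef
  have hCtop : (⊤ : Subgroup X) ≤ Nz C := by rw [Nz, Subgroup.normalizer_eq_top]
  obtain ⟨n, hn, y, -, hy, he⟩ :=
    (isSyl_sylow S).frattini (N := C) le_top hCtop (Subgroup.mem_top g⁻¹)
  have hgy : g = y⁻¹ * n⁻¹ := by rw [← inv_inv g, he, mul_inv_rev]
  have hM : M ≠ ⊤ := Nz_ne_top_of_not_le_pCore S.2.to_inf_left (not_inf_centralizer_le S hpp hC)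
  have hSM : (S : Subgroup X) ≤ M := by
    rw [hMdef, Nz, Subgroup.le_normalizer_iff]
    exact fun s hs x hx => ⟨mul_mem (mul_mem hs hx.1) ((S : Subgroup X).inv_mem hs),
      (inferInstance : C.Normal).conj_mem x hx.2 s⟩
  have hSL : (S : Subgroup X) ≤ L := le_sup_right
  have hCL : C ≤ L := le_sup_left
  have hmid : cj n⁻¹ D ≤ L ⊓ M := by
    refine le_inf ((cj_mono _ (hD.trans hSL)).trans (le_of_eq
      (cj_eq_self_of_mem (inv_mem (hCL hn))))) ?_
    have h2 : cj n⁻¹ D = cj y (cj g D) := by rw [cj_cj, hgy, mul_inv_cancel_left]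
    rw [h2]
    exact (cj_mono _ (hg.trans hSM)).trans (le_of_eq (cj_eq_of_mem (Subgroup.le_normalizer hy)))
  obtain ⟨c, hc, hcle⟩ := (IsSyl.sylow_inf (H := L ⊓ M) (le_inf hSL hSM)).exists_conj_le
    (isPGroup_cj (S.2.to_le hD) _) hmid
  rw [cj_cj] at hcle
  have h1 : Φ D (c * n⁻¹) :=
    decomp_overgroup hbase hctrl hSL hL (mul_mem hc.1 (inv_mem (hCL hn))) hD hcle
  have h2 : Φ (cj (c * n⁻¹) D) (y⁻¹ * c⁻¹) := by
    refine decomp_overgroup hbase hctrl hSM hM (mul_mem (inv_mem hy) (inv_mem hc.2)) hcle ?_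
    rw [cj_cj, show y⁻¹ * c⁻¹ * (c * n⁻¹) = g by rw [hgy]; group]
    exact hg
  have := hΦ.trans h1 h2
  rwa [show y⁻¹ * c⁻¹ * (c * n⁻¹) = g by rw [hgy]; group] at this

end Generic

/-! ### The minimal step for fusion -/

theorem fusIn_step_center (h𝓦 : ∀ W ∈ 𝓦, Cfsg.IsCharPFunctor.{u} p W) (S : Sylow p X)
    (hsub : ∀ H P : Subgroup X, H ≠ ⊤ → IsSyl p P H → P ≤ (S : Subgroup X) →
      H4.centerOf (S : Subgroup X) ≤ P → FusIn (Fam 𝓦 X) H P)
    (hquot : ∀ (N : Subgroup X) [N.Normal], N ≠ ⊥ → (IsPGroup p N ∨ (Nat.card N).Coprime p) →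
      ∀ S' : Sylow p (X ⧸ N),
      FusIn (Fam 𝓦 (X ⧸ N)) ⊤ (S' : Subgroup (X ⧸ N)))
    (hC : ¬ Subgroup.centralizer (Cfsg.pCore p X : Set X) ≤ Cfsg.pCore p X) :
    FusIn (Fam 𝓦 X) ⊤ (S : Subgroup X) := by
  set F := Fam 𝓦 X
  let Φ := Reach (FusStep F ⊤ (S : Subgroup X)) (S : Subgroup X)
  have hΦ : IsDecomp (S : Subgroup X) Φ := isDecomp_reach _ _ fusStep_inv
  have hbase : Base S Φ F := fun W hW x hx D hD hxD =>
    Reach.single (show x ∈ FusStep F ⊤ (S : Subgroup X) from ⟨W, hW, trivial, hx⟩) hD hxD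
  have hctrl : CtrlProper S Φ F := fun H P hH hP hPS hZ hs =>
    (hsub H P hH hP hPS hZ).to_decomp hΦ hPS hs
  intro D hD g _ hg
  show Φ D g
  by_cases hpp : Cfsg.pPrimeCore p X = ⊥
  swap
  · set N := Cfsg.pPrimeCore p X
    set π := QuotientGroup.mk' N
    have hsurj : Function.Surjective π := QuotientGroup.mk'_surjective N
    have hker : π.ker = N := QuotientGroup.ker_mk' N
    have hco : (Nat.card π.ker).Coprime p := by rw [hker]; exact Cores.pPrimeCore_coprime
    have hlift : ∀ (D' : Subgroup (X ⧸ N)) (g' : X ⧸ N),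
        Reach (FusStep (Fam 𝓦 (X ⧸ N)) ⊤ ((S : Subgroup X).map π)) ((S : Subgroup X).map π) D' g' →
        ∀ D : Subgroup X, D ≤ (S : Subgroup X) → D.map π = D' →
          ∃ m, Φ D m ∧ ∀ d ∈ D, π (m * d * m⁻¹) = g' * π d * g'⁻¹ := by
      intro D' g' h
      induction h with
      | @agree D' g' _ h2 =>
        exact fun D hD he => ⟨1, hΦ.triv hD, fun d hd => by rw [h2 _ (he ▸ ⟨d, hd, rfl⟩)]; simp⟩
      | @step D' x g g' hx h2 h3 h4 ih =>
        intro D hD he
        obtain ⟨_, ⟨W, hW, rfl⟩, -, hxW⟩ := hx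
        have hWS : Cfsg.inducedFunctor W ((S : Subgroup X).map π) =
            (Cfsg.inducedFunctor W (S : Subgroup X)).map π :=
          inducedFunctor_map (h𝓦 W hW) π S.2 fun z hz hz1 => eq_one_of_isP_of_coprime S.2
            Cores.pPrimeCore_coprime hz ((QuotientGroup.eq_one_iff z).mp hz1)
        have hconj := isConjugacyFunctor_induced (h𝓦 W hW) (p := p) (X := X)
        simp only [hWS] at hxW
        obtain ⟨x₀, hx₀, rfl⟩ :=
          exists_lift_normalizer hsurj hco (S.2.to_le (W_le hconj S.2)) hxW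
        set M := Nz (Cfsg.inducedFunctor W (S : Subgroup X))
        have hSM : (S : Subgroup X) ≤ M :=
          Subgroup.le_normalizer.trans (normalizer_le_Nz_W hconj S.2)
        set T := (S : Subgroup X) ⊓ (cj (π x₀) D').comap π
        have himg : (cj x₀ D).map π ≤ T.map π := by
          rw [map_cj, he]
          intro z hz
          obtain ⟨s, hs, rfl⟩ := h3.le hz
          exact ⟨s, ⟨hs, hz⟩, rfl⟩
        obtain ⟨n, hn, hnle⟩ := exists_conj_image hco (isPGroup_cj (S.2.to_le hD) x₀)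
          S.2.to_inf_left
          ((cj_mono _ (hD.trans hSM)).trans (cj_eq_of_mem (Subgroup.le_normalizer hx₀)).le)
          (inf_le_left.trans hSM) himg
        rw [cj_cj] at hnle
        have hnx : π (n * x₀) = π x₀ := by rw [map_mul, MonoidHom.mem_ker.mp hn.1, one_mul]
        obtain ⟨m, hm, hmeq⟩ := ih (cj (n * x₀) D) (hnle.trans inf_le_left)
          (by rw [map_cj, he, hnx])
        refine ⟨m * (n * x₀), hΦ.trans (hbase _ ⟨W, hW, rfl⟩ _ (mul_mem hn.2 hx₀) D hD
          (hnle.trans inf_le_left)) hm, fun d hd => ?_⟩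
        rw [← conj_conj, hmeq (n * x₀ * d * (n * x₀)⁻¹) ⟨d, hd, rfl⟩, ← h4 _ (he ▸ ⟨d, hd, rfl⟩),
          show π (n * x₀ * d * (n * x₀)⁻¹) = π x₀ * π d * (π x₀)⁻¹ by
            rw [map_mul, map_mul, map_inv, hnx], conj_conj]
    obtain ⟨m, hm, hmeq⟩ := hlift _ _ (hquot N hpp (Or.inr Cores.pPrimeCore_coprime) (S.mapSurjective hsurj) (D.map π)
      (Subgroup.map_mono hD) (π g) trivial (by rw [← map_cj]; exact Subgroup.map_mono hg)) D hD rfl
    refine hΦ.congr hm fun d hd => ?_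
    have h1 : m * d * m⁻¹ ∈ (S : Subgroup X) := hm.image_le ⟨d, hd, by simp⟩
    have h2 : g * d * g⁻¹ ∈ (S : Subgroup X) := hg ⟨d, hd, by simp⟩
    refine inv_mul_eq_one.mp (eq_one_of_isP_of_coprime S.2 Cores.pPrimeCore_coprime
      (mul_mem (inv_mem h1) h2) (QuotientGroup.eq.mp ?_))
    have := hmeq d hd
    rw [show π g * π d * (π g)⁻¹ = π (g * d * g⁻¹) by simp] at this
    exact this
  by_cases hQ : Cfsg.pCore p X = ⊥
  · exact decomp_of_pCore_bot hΦ (fam_conjFunctor h𝓦) hbase hctrl hQ hD hg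
  by_cases hL : Subgroup.centralizer (Cfsg.pCore p X : Set X) ⊔ (S : Subgroup X) = ⊤
  swap
  · exact decomp_of_factor hΦ hbase hctrl hpp hC hL hD hg
  -- the case `X = C(Q) S`
  set Q := Cfsg.pCore p X with hQdef
  set π := QuotientGroup.mk' Q with hπdef
  have hsurj : Function.Surjective π := QuotientGroup.mk'_surjective Q
  have hker : π.ker = Q := QuotientGroup.ker_mk' Q
  have hQS : Q ≤ (S : Subgroup X) := Cores.pCore_le_sylow S
  have hSbar : (S : Subgroup X).map π ≠ ⊥ := by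
    rw [Ne, Subgroup.map_eq_bot_iff, hker]
    exact fun h => not_inf_centralizer_le S hpp hC (inf_le_left.trans h)
  have hSne := sylow_ne_top S hpp hC
  have hlift : ∀ (D' : Subgroup (X ⧸ Q)) (g' : X ⧸ Q),
      Reach (FusStep (Fam 𝓦 (X ⧸ Q)) ⊤ ((S : Subgroup X).map π)) ((S : Subgroup X).map π) D' g' →
      ∀ D : Subgroup X, D ≤ (S : Subgroup X) → Q ≤ D → D.map π = D' →
        ∃ m, Φ D m ∧ ∀ d ∈ D, π (m * d * m⁻¹) = g' * π d * g'⁻¹ := by
    intro D' g' h
    induction h with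
    | @agree D' g' _ h2 =>
      exact fun D hD _ he => ⟨1, hΦ.triv hD, fun d hd => by rw [h2 _ (he ▸ ⟨d, hd, rfl⟩)]; simp⟩
    | @step D' x g g' hx h2 h3 h4 ih =>
      intro D hD hQD he
      obtain ⟨x, rfl⟩ := hsurj x
      obtain ⟨_, ⟨W, hW, rfl⟩, -, hxW⟩ := hx
      have hconj := isConjugacyFunctor_induced (h𝓦 W hW) (p := p) (X := X ⧸ Q)
      have hSp : IsPGroup p ((S : Subgroup X).map π) := S.2.map π
      have hHne := pCore_quot_Nz_ne_top (X := X) (hSp.to_le (W_le hconj hSp))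
        (W_ne_bot hconj hSp hSbar)
      have hxD : cj x D ≤ (S : Subgroup X) := by
        refine le_trans ?_ (comap_map_sylow S).le
        rw [← Subgroup.map_le_iff_le_comap, map_cj, he]
        exact h3.le
      have hQxD : Q ≤ cj x D := (cj_eq_of_normal x Q).ge.trans (cj_mono _ hQD)
      obtain ⟨m, hm, hmeq⟩ := ih (cj x D) hxD hQxD (by rw [map_cj, he])
      refine ⟨m * x, hΦ.trans (decomp_overgroup hbase hctrl ?_ hHne hxW hD hxD) hm,
        fun d hd => ?_⟩
      · rw [← Subgroup.map_le_iff_le_comap]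
        exact Subgroup.le_normalizer.trans (normalizer_le_Nz_W hconj hSp)
      · rw [← conj_conj, hmeq _ ⟨d, hd, by simp⟩, ← h4 _ (he ▸ ⟨d, hd, rfl⟩),
          show π (x * d * x⁻¹) = π x * π d * (π x)⁻¹ by simp, conj_conj]
  refine decomp_of_extremal hΦ.toIsPreDecomp Q hQS (fun U hU hQU hext _ n hn => ?_) hD hg
  obtain ⟨m, hm, hmeq⟩ := hlift _ _ (hquot Q hQ (Or.inl Cores.pCore_isPGroup) (S.mapSurjective hsurj) (U.map π)
    (Subgroup.map_mono hU) (π n) trivial
    (by rw [← map_cj, cj_eq_of_mem hn]; exact Subgroup.map_mono hU)) U hU hQU rfl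
  have hQcomap : ∀ E : Subgroup X, Q ≤ E → (E.map π).comap π = E := fun E hE =>
    Subgroup.comap_map_eq_self (hker.trans_le hE)
  have hmU : cj m U = U := by
    rw [← hQcomap (cj m U) ((cj_eq_of_normal m Q).ge.trans (cj_mono _ hQU))]
    conv_rhs => rw [← hQcomap U hQU, ← cj_eq_of_mem hn]
    congr 1
    rw [map_cj, map_cj]
    exact cj_congr fun _ ⟨d, hd, hde⟩ => by
      rw [← hde, ← hmeq d hd]; simp
  set h := m⁻¹ * n with hh
  have hhN : h ∈ Nz U := mul_mem (inv_mem (mem_Nz.mpr hmU)) hn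
  set K := Nz U ⊓ (Subgroup.centralizer ((U.map π : Subgroup (X ⧸ Q)) : Set (X ⧸ Q))).comap π
    with hKdef
  have hhK : h ∈ K := by
    refine ⟨hhN, ?_⟩
    show π h ∈ Subgroup.centralizer _
    rw [Subgroup.mem_centralizer_iff]
    rintro _ ⟨d, hd, rfl⟩
    have h1 := hmeq d hd
    have h2 : π m * π d * (π m)⁻¹ = π n * π d * (π n)⁻¹ := by rw [← h1]; simp
    rw [hh, map_mul, map_inv]
    calc π d * ((π m)⁻¹ * π n) = (π m)⁻¹ * (π m * π d * (π m)⁻¹) * π n := by group
      _ = (π m)⁻¹ * π n * π d := by rw [h2]; group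
  have hKn : Nz U ≤ Nz K := by
    rw [Nz, Nz, Subgroup.le_normalizer_iff]
    intro a ha k hk
    refine ⟨mul_mem (mul_mem ha hk.1) ((Nz U).inv_mem ha), ?_⟩
    show π (a * k * a⁻¹) ∈ Subgroup.centralizer _
    rw [Subgroup.mem_centralizer_iff]
    rintro _ ⟨d, hd, rfl⟩
    have h1 : a⁻¹ * d * a ∈ U := (Subgroup.mem_normalizer_iff''.mp ha d).mp hd
    have h2 := Subgroup.mem_centralizer_iff.mp hk.2 (π (a⁻¹ * d * a)) ⟨_, h1, rfl⟩
    simp only [map_mul, map_inv] at h2 ⊢
    calc π d * (π a * π k * (π a)⁻¹)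
        = π a * ((π a)⁻¹ * π d * π a * π k) * (π a)⁻¹ := by group
      _ = π a * (π k * ((π a)⁻¹ * π d * π a)) * (π a)⁻¹ := by rw [h2]
      _ = π a * π k * (π a)⁻¹ * π d := by group
  set R := ((S : Subgroup X) ⊓ Nz U) ⊓ K with hR
  have hRK : IsSyl p R K := hext.inf_normal inf_le_left hKn
  have hgen : ∀ k ∈ K, (orderOf k).Coprime p → k ∈ Subgroup.centralizer (U : Set X) := by
    intro k hk hord
    rw [Subgroup.mem_centralizer_iff]
    intro d hd
    have hq : k * d * k⁻¹ * d⁻¹ ∈ Q := by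
      rw [← hker, MonoidHom.mem_ker, map_mul, map_mul, map_mul, map_inv, map_inv,
        ← Subgroup.mem_centralizer_iff.mp hk.2 (π d) ⟨d, hd, rfl⟩]
      group
    have hkC := centralizer_of_coprime hL hord
    set q := k * d * k⁻¹ * d⁻¹ with hqdef
    have hcomm : q * k = k * q := Subgroup.mem_centralizer_iff.mp hkC q hq
    have hpow : ∀ i : ℕ, k ^ i * d * (k ^ i)⁻¹ = q ^ i * d := by
      intro i
      induction i with
      | zero => simp
      | succ i ih =>
        calc k ^ (i + 1) * d * (k ^ (i + 1))⁻¹ = k * (k ^ i * d * (k ^ i)⁻¹) * k⁻¹ := by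
              rw [pow_succ']; group
          _ = k * q ^ i * (d * k⁻¹) := by rw [ih]; group
          _ = q ^ i * (k * (d * k⁻¹)) := by
              rw [((Commute.pow_left hcomm i).eq).symm]; group
          _ = q ^ (i + 1) * d := by rw [pow_succ, hqdef]; group
    have h1 := hpow (orderOf k)
    rw [pow_orderOf_eq_one, inv_one, mul_one, one_mul, right_eq_mul] at h1
    have h2 : q = 1 := by
      obtain ⟨e, he⟩ := Cores.pCore_isPGroup (p := p) (G := X) ⟨q, hq⟩
      have h3 : q ^ p ^ e = 1 := congrArg Subtype.val he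
      have h4 := pow_gcd_eq_one.mpr ⟨h3, h1⟩
      rwa [Nat.Coprime.pow_left e hord.symm, pow_one] at h4
    calc d * k = q * d * k := by rw [h2, one_mul]
      _ = k * d := by rw [hqdef]; group
  obtain ⟨s, hs, c, hc, hsc⟩ : ∃ s ∈ R, ∃ c ∈ Subgroup.centralizer (U : Set X), s * c = h := by
    obtain ⟨w, hw, r, hr, hwr⟩ := Transfer.exists_mul_eq_of_not_dvd_index
      (H := R.subgroupOf K) hRK.idx (⟨h, hhK⟩ : K)
    have hwC : (w : X) ∈ Subgroup.centralizer (U : Set X) := by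
      have : Cfsg.pResidual p K ≤ (Subgroup.centralizer (U : Set X)).subgroupOf K :=
        (Subgroup.closure_le _).mpr fun k hk =>
          hgen k k.2 (by rw [Subgroup.orderOf_coe]; exact hk)
      exact this hw
    have hwr' : (w : X) * (r : X) = h := congrArg Subtype.val hwr
    refine ⟨r, hr, (r : X)⁻¹ * (w : X) * r, ?_, by rw [← hwr']; group⟩
    have hrU : (r : X) ∈ Nz U := hr.1.2
    rw [Subgroup.mem_centralizer_iff] at hwC ⊢
    intro d hd
    have h1 : (r : X) * d * (r : X)⁻¹ ∈ U := (Subgroup.mem_normalizer_iff.mp hrU d).mp hd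
    have h2 := hwC _ h1
    calc d * ((r : X)⁻¹ * w * r) = (r : X)⁻¹ * (r * d * (r : X)⁻¹ * w) * r := by group
      _ = (r : X)⁻¹ * (w * (r * d * (r : X)⁻¹)) * r := by rw [h2]
      _ = (r : X)⁻¹ * w * r * d := by group
  have hΦh : Φ U h := by
    refine hΦ.congr (g := s) (decomp_overgroup hbase hctrl le_rfl hSne hs.1.1 hU
      ((cj_mono _ hU).trans (cj_eq_self_of_mem hs.1.1).le)) fun d hd => ?_
    calc s * d * s⁻¹ = s * (d * c) * c⁻¹ * s⁻¹ := by group
      _ = h * d * h⁻¹ := by rw [Subgroup.mem_centralizer_iff.mp hc d hd, ← hsc]; group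
  have := hΦ.trans hΦh (g := h) (h := m) (by rw [cj_eq_of_mem hhN]; exact hm)
  rwa [hh, mul_inv_cancel_left] at this

end Cfsg.Agent.EvenLocal.ZJFree
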